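import Mathlib.RingTheory.MvPolynomial.Homogeneous
import Mathlib.RingTheory.Filtration
import Mathlib.RingTheory.TensorProduct.MvPolynomial

/-!
# Graded maps to polynomial rings attached to a splitting of `(f₁, …, f_r)` on `I^c`
-/

set_option autoImplicit false
set_option linter.unusedSectionVars false

universe u

open MvPolynomial
open scoped TensorProduct

namespace Groth.Agent.H4CdOne

variable {A : Type u} [CommRing A] {r : ℕ} (I : Ideal A) (c : ℕ) (φ : Fin r → (↥(I ^ c) →ₗ[A] A))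

open scoped Classical in
/-- Extension of `φ j` by zero. -/
noncomputable def ext0 (j : Fin r) (x : A) : A := if h : x ∈ I ^ c then φ j ⟨x, h⟩ else 0

variable {I c}

theorem ext0_apply (j : Fin r) {x : A} (h : x ∈ I ^ c) : ext0 I c φ j x = φ j ⟨x, h⟩ := dif_pos h

theorem ext0_add (j : Fin r) {x y : A} (hx : x ∈ I ^ c) (hy : y ∈ I ^ c) :
    ext0 I c φ j (x + y) = ext0 I c φ j x + ext0 I c φ j y := by
  rw [ext0_apply φ j hx, ext0_apply φ j hy, ext0_apply φ j (add_mem hx hy), ← map_add]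
  rfl

theorem ext0_mul (j : Fin r) (a : A) {x : A} (hx : x ∈ I ^ c) :
    ext0 I c φ j (a * x) = a * ext0 I c φ j x := by
  rw [ext0_apply φ j hx, ext0_apply φ j (Ideal.mul_mem_left _ a hx)]
  exact map_smul (φ j) a ⟨x, hx⟩

theorem succ_mul_le (n : ℕ) : I ^ ((n + 1) * c) ≤ I ^ c :=
  Ideal.pow_le_pow_right (Nat.le_mul_of_pos_left c (Nat.succ_pos n))

theorem ext0_mem (j : Fin r) (n : ℕ) {x : A} (hx : x ∈ I ^ ((n + 1) * c)) :
    ext0 I c φ j x ∈ I ^ (n * c) := by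
  rw [add_mul, one_mul, pow_add] at hx
  suffices x ∈ I ^ c ∧ ext0 I c φ j x ∈ I ^ (n * c) from this.2
  induction hx using Submodule.mul_induction_on' with
  | mem_mul_mem a ha b hb =>
    exact ⟨Ideal.mul_mem_left _ a hb, by rw [ext0_mul φ j a hb]; exact Ideal.mul_mem_right _ _ ha⟩
  | add a _ b _ ha hb =>
    exact ⟨add_mem ha.1 hb.1, by rw [ext0_add φ j ha.1 hb.1]; exact add_mem ha.2 hb.2⟩

variable (I c) in
/-- The graded map. -/
noncomputable def gmap : ℕ → A → MvPolynomial (Fin r) A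
  | 0, a => C a
  | n + 1, g => ∑ j, gmap n (ext0 I c φ j g) * X j

theorem gmap_add : ∀ (n : ℕ) {g h : A}, g ∈ I ^ (n * c) → h ∈ I ^ (n * c) →
    gmap I c φ n (g + h) = gmap I c φ n g + gmap I c φ n h
  | 0, g, h, _, _ => map_add C g h
  | n + 1, g, h, hg, hh => by
    simp only [gmap, ← Finset.sum_add_distrib, ← add_mul]
    refine Finset.sum_congr rfl fun j _ => ?_
    rw [ext0_add φ j (succ_mul_le n hg) (succ_mul_le n hh),
      gmap_add n (ext0_mem φ j n hg) (ext0_mem φ j n hh)]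

theorem gmap_mul_left : ∀ (n : ℕ) (a : A) {g : A}, g ∈ I ^ (n * c) →
    gmap I c φ n (a * g) = a • gmap I c φ n g
  | 0, a, g, _ => by simp only [gmap]; rw [map_mul, MvPolynomial.smul_eq_C_mul]
  | n + 1, a, g, hg => by
    simp only [gmap, Finset.smul_sum]
    refine Finset.sum_congr rfl fun j _ => ?_
    rw [ext0_mul φ j a (succ_mul_le n hg), gmap_mul_left n a (ext0_mem φ j n hg), smul_mul_assoc]

theorem gmap_homogeneous : ∀ (n : ℕ) (g : A), (gmap I c φ n g).IsHomogeneous n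
  | 0, g => isHomogeneous_C _ g
  | n + 1, _ => IsHomogeneous.sum _ _ _ fun j _ => (gmap_homogeneous n _).mul (isHomogeneous_X A j)

theorem gmap_one {g : A} (hg : g ∈ I ^ c) : gmap I c φ 1 g = ∑ j, C (φ j ⟨g, hg⟩) * X j := by
  simp only [gmap, ext0_apply φ _ hg]

theorem gmap_mul : ∀ (n m : ℕ) {g h : A}, g ∈ I ^ (n * c) → h ∈ I ^ (m * c) →
    gmap I c φ (n + m) (g * h) = gmap I c φ n g * gmap I c φ m h
  | 0, m, g, h, _, hh => by
    rw [zero_add, gmap_mul_left φ m g hh, MvPolynomial.smul_eq_C_mul]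
    rfl
  | n + 1, m, g, h, hg, hh => by
    rw [Nat.add_right_comm]
    simp only [gmap, Finset.sum_mul]
    refine Finset.sum_congr rfl fun j _ => ?_
    rw [mul_comm g h, ext0_mul φ j h (succ_mul_le n hg), mul_comm h,
      gmap_mul n m (ext0_mem φ j n hg) hh]
    ring

theorem aeval_gmap {f : Fin r → A} (hφ : ∀ x : ↥(I ^ c), (x : A) = ∑ j, f j * φ j x) :
    ∀ (n : ℕ) {g : A}, g ∈ I ^ (n * c) → aeval f (gmap I c φ n g) = g
  | 0, g, _ => by simp [gmap]
  | n + 1, g, hg => by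
    simp only [gmap, map_sum, map_mul, aeval_X]
    have h := hφ ⟨g, succ_mul_le n hg⟩
    refine (Finset.sum_congr rfl fun j _ => ?_).trans h.symm
    rw [aeval_gmap hφ n (ext0_mem φ j n hg), ext0_apply φ j (succ_mul_le n hg), mul_comm]

theorem eq_gmap (Ψ : ℕ → A → MvPolynomial (Fin r) A)
    (hadd : ∀ n : ℕ, ∀ g ∈ I ^ (n * c), ∀ h ∈ I ^ (n * c), Ψ n (g + h) = Ψ n g + Ψ n h)
    (hmul : ∀ n m : ℕ, ∀ g ∈ I ^ (n * c), ∀ h ∈ I ^ (m * c), Ψ (n + m) (g * h) = Ψ n g * Ψ m h)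
    (h0 : ∀ a : A, Ψ 0 a = C a)
    (h1 : ∀ (g : A) (hg : g ∈ I ^ c), Ψ 1 g = ∑ j, C (φ j ⟨g, hg⟩) * X j) :
    ∀ (n : ℕ), ∀ g ∈ I ^ (n * c), Ψ n g = gmap I c φ n g
  | 0, g, _ => h0 g
  | n + 1, g, hg => by
    have e : I ^ ((n + 1) * c) = I ^ (n * c) * I ^ c := by rw [add_mul, one_mul, pow_add]
    rw [e] at hg
    induction hg using Submodule.mul_induction_on' with
    | mem_mul_mem a ha b hb =>
      rw [hmul n 1 a ha b (by rwa [one_mul]), gmap_mul φ n 1 ha (by rwa [one_mul]),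
        eq_gmap Ψ hadd hmul h0 h1 n a ha, h1 b hb, gmap_one φ hb]
    | add a ha b hb iha ihb =>
      rw [hadd _ a (e ▸ ha) b (e ▸ hb), gmap_add φ _ (e ▸ ha) (e ▸ hb), iha, ihb]

end Groth.Agent.H4CdOne
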