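import Groth.Agent.H4CdOne.GradedMap
import Mathlib.Algebra.Module.Torsion.Basic

/-!
# Module versions of the graded maps
-/

set_option autoImplicit false
set_option linter.unusedSectionVars false
set_option linter.style.haveILetI false

universe u

open MvPolynomial
open scoped TensorProduct Pointwise

namespace Groth.Agent.H4CdOne

variable {A : Type u} [CommRing A] {r : ℕ} (I : Ideal A)
  (B : Type u) [CommRing B] [Algebra A B] (N : Type u) [AddCommGroup N] [Module B N]

/-- The generators of `I^k N`. -/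
def gen (k : ℕ) : Set N := {y : N | ∃ g ∈ I ^ k, ∃ x : N, y = algebraMap A B g • x}

variable {I B N}

theorem span_gen (k : ℕ) :
    Submodule.span B (gen I B N k) = (I ^ k).map (algebraMap A B) • (⊤ : Submodule B N) := by
  refine le_antisymm (Submodule.span_le.2 ?_) ?_
  · rintro _ ⟨g, hg, x, rfl⟩
    exact Submodule.smul_mem_smul (Ideal.mem_map_of_mem _ hg) trivial
  · refine Submodule.smul_le.2 fun b hb x _ => ?_
    induction hb using Submodule.span_induction generalizing x with
    | mem b hb => obtain ⟨g, hg, rfl⟩ := hb; exact Submodule.subset_span ⟨g, hg, x, rfl⟩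
    | zero => rw [zero_smul]; exact zero_mem _
    | add b b' _ _ ih ih' => rw [add_smul]; exact add_mem (ih x trivial) (ih' x trivial)
    | smul a b _ ih => rw [smul_assoc]; exact Submodule.smul_mem _ a (ih x trivial)

variable [IsNoetherianRing B] [Module.Finite B N] {c : ℕ} (φ : Fin r → (↥(I ^ c) →ₗ[A] A))

/-- For large `c'` the maps `φ j` extend to `I^{c'}N`. -/
theorem exists_lift : ∃ c' : ℕ, c ≤ c' ∧ ∀ j, ∃ ψ : ↥(Submodule.span B (gen I B N c')) →ₗ[B] N,
    ∀ (g : A) (hg : g ∈ I ^ c') (x : N),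
      ψ ⟨algebraMap A B g • x, Submodule.subset_span ⟨g, hg, x, rfl⟩⟩ =
        algebraMap A B (ext0 I c φ j g) • x := by
  let J : Ideal B := I.map (algebraMap A B)
  let T : Submodule B N := Submodule.torsionBySet B N (J ^ c : Ideal B)
  obtain ⟨k₀, hk₀⟩ := J.exists_pow_inf_eq_pow_smul T
  let k := k₀ + c
  have hT : ∀ z ∈ (J ^ k • ⊤ : Submodule B N), z ∈ T → z = 0 := fun z h1 h2 => by
    have h3 : z ∈ J ^ (k - k₀) • (J ^ k₀ • ⊤ ⊓ T) := hk₀ k (Nat.le_add_right _ _) ▸ ⟨h1, h2⟩
    rw [Nat.add_sub_cancel_left] at h3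
    refine Submodule.smul_induction_on h3 (fun a ha n hn => ?_) fun a b ha hb => by rw [ha, hb, add_zero]
    exact (Submodule.mem_torsionBySet_iff _ _).1 hn.2 ⟨a, ha⟩
  refine ⟨c + k, Nat.le_add_right _ _, fun j => ?_⟩
  letI : Module A N := Module.compHom N (algebraMap A B)
  haveI : IsScalarTower A B N := IsScalarTower.of_algebraMap_smul fun _ _ => rfl
  haveI : SMulCommClass B A N := ⟨fun b a x => smul_comm b (algebraMap A B a) x⟩
  let L := ↥(I ^ (c + k))
  let incl : L →ₗ[A] ↥(I ^ c) := Submodule.inclusion (Ideal.pow_le_pow_right (Nat.le_add_right _ _))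
  let μ : N ⊗[A] L →ₗ[B] N :=
    TensorProduct.AlgebraTensorModule.lift
      { toFun := fun x => ((Submodule.subtype _ : L →ₗ[A] A).smulRight x)
        map_add' := fun x y => LinearMap.ext fun g => smul_add _ x y
        map_smul' := fun b x => LinearMap.ext fun g => (smul_comm b _ x).symm }
  let ν : N ⊗[A] L →ₗ[B] N :=
    TensorProduct.AlgebraTensorModule.lift
      { toFun := fun x => ((φ j ∘ₗ incl).smulRight x)
        map_add' := fun x y => LinearMap.ext fun g => smul_add _ x y
        map_smul' := fun b x => LinearMap.ext fun g => (smul_comm b _ x).symm }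
  have hμ : ∀ x g, μ (x ⊗ₜ g) = algebraMap A B (g : A) • x := fun x g => rfl
  have hν : ∀ x (g : L), ν (x ⊗ₜ g) = algebraMap A B (ext0 I c φ j g) • x := fun x g => by
    rw [ext0_apply φ j (Ideal.pow_le_pow_right (Nat.le_add_right _ _) g.2)]
    rfl
  have hker : LinearMap.ker μ ≤ LinearMap.ker ν := fun z hz => by
    rw [LinearMap.mem_ker] at hz ⊢
    refine hT _ ?_ ?_
    · clear hz
      induction z using TensorProduct.induction_on with
      | zero => rw [map_zero]; exact zero_mem _
      | tmul x g =>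
        rw [hν, show J ^ k = (I ^ k).map (algebraMap A B) from (Ideal.map_pow _ _ _).symm]
        refine Submodule.smul_mem_smul (Ideal.mem_map_of_mem _ ?_) trivial
        have hg : (g : A) ∈ I ^ k * I ^ c := by rw [← pow_add, add_comm]; exact g.2
        generalize (g : A) = a₀ at hg ⊢
        suffices a₀ ∈ I ^ c ∧ ext0 I c φ j a₀ ∈ I ^ k from this.2
        induction hg using Submodule.mul_induction_on' with
        | mem_mul_mem a ha b hb =>
          exact ⟨Ideal.mul_mem_left _ a hb,
            by rw [ext0_mul φ j a hb]; exact Ideal.mul_mem_right _ _ ha⟩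
        | add a _ b _ ha hb =>
          exact ⟨add_mem ha.1 hb.1, by rw [ext0_add φ j ha.1 hb.1]; exact add_mem ha.2 hb.2⟩
      | add z w hz hw => rw [map_add]; exact add_mem hz hw
    · have key : ∀ (h : A) (hh : h ∈ I ^ c) (z : N ⊗[A] L),
          algebraMap A B h • ν z = algebraMap A B (ext0 I c φ j h) • μ z := fun h hh z => by
        induction z using TensorProduct.induction_on with
        | zero => simp
        | tmul x g =>
          have hg := Ideal.pow_le_pow_right (Nat.le_add_right c k) g.2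
          rw [hν, hμ, smul_smul, smul_smul, ← map_mul, ← map_mul, ← ext0_mul φ j h hg,
            mul_comm h, ext0_mul φ j (g : A) hh, mul_comm]
        | add z w hz hw => rw [map_add, map_add, smul_add, smul_add, hz, hw]
      rw [Submodule.mem_torsionBySet_iff]
      rintro ⟨b, hb⟩
      show b • ν z = 0
      rw [SetLike.mem_coe, ← Ideal.map_pow] at hb
      induction hb using Submodule.span_induction with
      | mem b hb => obtain ⟨h, hh, rfl⟩ := hb; rw [key h hh, hz, smul_zero]
      | zero => exact zero_smul _ _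
      | add b b' _ _ ih ih' => rw [add_smul, ih, ih', add_zero]
      | smul a b _ ih => rw [smul_assoc, ih, smul_zero]
  have hrange : Submodule.span B (gen I B N (c + k)) ≤ LinearMap.range μ := Submodule.span_le.2 (by
    rintro _ ⟨g, hg, x, rfl⟩
    exact ⟨x ⊗ₜ ⟨g, hg⟩, hμ _ _⟩)
  refine ⟨(Submodule.liftQ (LinearMap.ker μ) ν hker) ∘ₗ μ.quotKerEquivRange.symm.toLinearMap ∘ₗ
    Submodule.inclusion hrange, fun g hg x => ?_⟩
  have e : μ.quotKerEquivRange.symm (Submodule.inclusion hrange
      ⟨algebraMap A B g • x, Submodule.subset_span ⟨g, hg, x, rfl⟩⟩) =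
      Submodule.Quotient.mk (x ⊗ₜ ⟨g, hg⟩) := by
    rw [LinearEquiv.symm_apply_eq]
    exact Subtype.ext (hμ x ⟨g, hg⟩).symm
  simp only [LinearMap.coe_comp, Function.comp_apply, LinearEquiv.coe_coe]
  rw [e, Submodule.liftQ_apply]
  exact hν x ⟨g, hg⟩

theorem exists_mmap (f : Fin r → A) (hφ : ∀ x : ↥(I ^ c), (x : A) = ∑ j, f j * φ j x) :
    ∃ c' : ℕ, ∃ hcc' : c ≤ c', ∀ n : ℕ,
      ∃ Ψ : ↥(Submodule.span B (gen I B N (n * c'))) →ₗ[B] (MvPolynomial (Fin r) B ⊗[B] N),
        (∀ (g : A) (hg : g ∈ I ^ (n * c')) (x : N),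
          Ψ ⟨algebraMap A B g • x, Submodule.subset_span ⟨g, hg, x, rfl⟩⟩ =
            MvPolynomial.map (algebraMap A B) (gmap I c'
              (fun j => (φ j).comp (Submodule.inclusion (Ideal.pow_le_pow_right hcc'))) n g) ⊗ₜ[B] x) ∧
        ∀ y : ↥(Submodule.span B (gen I B N (n * c'))),
          TensorProduct.lift ((LinearMap.lsmul B N).comp
            (MvPolynomial.aeval (fun j ↦ algebraMap A B (f j))).toLinearMap) (Ψ y) = (y : N) := by
  obtain ⟨c', hcc', hψ⟩ := exists_lift (N := N) (B := B) φ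
  choose ψ hψ using hψ
  refine ⟨c', hcc', fun n => ?_⟩
  let φ' : Fin r → (↥(I ^ c') →ₗ[A] A) := fun j =>
    (φ j).comp (Submodule.inclusion (Ideal.pow_le_pow_right hcc'))
  have he : ∀ j g, g ∈ I ^ c' → ext0 I c φ j g = ext0 I c' φ' j g := fun j g hg => by
    rw [ext0_apply φ j (Ideal.pow_le_pow_right hcc' hg), ext0_apply φ' j hg]; rfl
  have hψ' : ∀ j (g : A) (x : N), g ∈ I ^ c' → ∀ h,
      ψ j ⟨algebraMap A B g • x, h⟩ = algebraMap A B (ext0 I c' φ' j g) • x :=
    fun j g x hg h => (hψ j g hg x).trans (by rw [he j g hg])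
  let lsum : MvPolynomial (Fin r) B ⊗[B] N →ₗ[B] N := TensorProduct.lift ((LinearMap.lsmul B N).comp
    (MvPolynomial.aeval (fun j ↦ algebraMap A B (f j))).toLinearMap)
  induction n with
  | zero =>
    refine ⟨(TensorProduct.mk B (MvPolynomial (Fin r) B) N 1).comp (Submodule.subtype _),
      fun g hg x => ?_, fun y => ?_⟩
    · show (1 : MvPolynomial (Fin r) B) ⊗ₜ[B] (algebraMap A B g • x) = _
      rw [← TensorProduct.smul_tmul]
      congr 1
      show algebraMap A B g • (1 : MvPolynomial (Fin r) B) = MvPolynomial.map _ (C g)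
      rw [map_C, MvPolynomial.smul_eq_C_mul, mul_one]
    · show aeval (fun j ↦ algebraMap A B (f j)) (1 : MvPolynomial (Fin r) B) • (y : N) = _
      rw [map_one, one_smul]
  | succ n ih =>
    obtain ⟨Ψ, hΨ, hΨl⟩ := ih
    have h1 : Submodule.span B (gen I B N ((n + 1) * c')) ≤ Submodule.span B (gen I B N c') :=
      Submodule.span_mono fun y ⟨g, hg, x, e⟩ => ⟨g, succ_mul_le n hg, x, e⟩
    let η : Fin r → ↥(Submodule.span B (gen I B N ((n + 1) * c'))) →ₗ[B]
        ↥(Submodule.span B (gen I B N (n * c'))) := fun j =>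
      ((ψ j).comp (Submodule.inclusion h1)).codRestrict _ fun y => by
        obtain ⟨y, hy⟩ := y
        induction hy using Submodule.span_induction with
        | mem y hy =>
          obtain ⟨g, hg, x, rfl⟩ := hy
          exact Submodule.subset_span ⟨_, ext0_mem φ' j n hg, x, hψ' j g x (succ_mul_le n hg) _⟩
        | zero => exact (map_zero ((ψ j).comp (Submodule.inclusion h1))).symm ▸ zero_mem _
        | add a b ha hb iha ihb =>
          exact (map_add ((ψ j).comp (Submodule.inclusion h1)) ⟨a, ha⟩ ⟨b, hb⟩).symm ▸ add_mem iha ihb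
        | smul t a ha iha =>
          exact (map_smul ((ψ j).comp (Submodule.inclusion h1)) t ⟨a, ha⟩).symm ▸ Submodule.smul_mem _ t iha
    let mX : Fin r → (MvPolynomial (Fin r) B ⊗[B] N →ₗ[B] MvPolynomial (Fin r) B ⊗[B] N) := fun j =>
      LinearMap.rTensor N (LinearMap.mulRight B (X j : MvPolynomial (Fin r) B))
    refine ⟨∑ j, mX j ∘ₗ Ψ ∘ₗ η j, fun g hg x => ?_, ?_⟩
    · rw [LinearMap.sum_apply, gmap, map_sum, TensorProduct.sum_tmul]
      refine Finset.sum_congr rfl fun j _ => ?_
      have e : η j ⟨algebraMap A B g • x, Submodule.subset_span ⟨g, hg, x, rfl⟩⟩ =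
          ⟨algebraMap A B (ext0 I c' φ' j g) • x, Submodule.subset_span ⟨_, ext0_mem φ' j n hg, x, rfl⟩⟩ :=
        Subtype.ext (hψ' j g x (succ_mul_le n hg) _)
      rw [LinearMap.comp_apply, LinearMap.comp_apply, e, hΨ _ (ext0_mem φ' j n hg) x, map_mul, map_X]
      rfl
    · intro y
      obtain ⟨y, hy⟩ := y
      have hX : ∀ j z, lsum (mX j z) = algebraMap A B (f j) • lsum z := fun j z => by
        induction z using TensorProduct.induction_on with
        | zero => simp
        | tmul p x =>
          show aeval (fun j ↦ algebraMap A B (f j)) (p * X j) • x =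
            algebraMap A B (f j) • (aeval (fun j ↦ algebraMap A B (f j)) p • x)
          rw [map_mul, aeval_X, mul_comm, mul_smul]
        | add z w hz hw => rw [map_add, map_add, map_add, hz, hw, smul_add]
      show lsum ((∑ j, mX j ∘ₗ Ψ ∘ₗ η j) ⟨y, hy⟩) = y
      induction hy using Submodule.span_induction with
      | mem y hy =>
        obtain ⟨g, hg, x, rfl⟩ := hy
        rw [LinearMap.sum_apply, map_sum]
        simp only [LinearMap.comp_apply]
        have e : ∀ j, lsum (mX j (Ψ (η j ⟨algebraMap A B g • x, Submodule.subset_span ⟨g, hg, x, rfl⟩⟩))) =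
            algebraMap A B (f j * ext0 I c' φ' j g) • x := fun j => by
          rw [hX]
          refine (congrArg (algebraMap A B (f j) • ·) (hΨl (η j _))).trans ?_
          rw [map_mul, mul_smul]
          exact congrArg (algebraMap A B (f j) • ·) (hψ' j g x (succ_mul_le n hg) _)
        refine (Finset.sum_congr rfl fun j _ => e j).trans ?_
        rw [← Finset.sum_smul, ← map_sum]
        congr 2
        refine Eq.symm ?_
        refine (hφ ⟨g, Ideal.pow_le_pow_right hcc' (succ_mul_le n hg)⟩).trans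
          (Finset.sum_congr rfl fun j _ => ?_)
        rw [ext0_apply φ' j (succ_mul_le n hg)]
        rfl
      | zero => exact (congrArg lsum (map_zero (∑ j, mX j ∘ₗ Ψ ∘ₗ η j))).trans (map_zero lsum)
      | add a b ha hb iha ihb =>
        rw [show (⟨a + b, _⟩ : ↥(Submodule.span B (gen I B N ((n + 1) * c')))) = ⟨a, ha⟩ + ⟨b, hb⟩ from rfl,
          map_add, map_add, iha, ihb]
      | smul t a ha iha =>
        rw [show (⟨t • a, _⟩ : ↥(Submodule.span B (gen I B N ((n + 1) * c')))) = t • ⟨a, ha⟩ from rfl,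
          map_smul, map_smul, iha]

end Groth.Agent.H4CdOne
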